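import Groth.Prelude.Def_SGA4c

/-!
# Colimits in the topos of sheaves of sets (found with few imports)

With many imports the instance search for `HasColimitsOfSize (Sheaf J (Type u))` loops; this theorem can be used as a
local instance of high priority.
-/

set_option autoImplicit false

universe u

open CategoryTheory CategoryTheory.Limits

namespace Groth.Agent.Topos.H563.ShColim

variable {C : Type u} [SmallCategory C] {J : GrothendieckTopology C}

theorem hasColimits_sh : HasColimitsOfSize.{u, u} (Sheaf J (Type u)) := inferInstance

theorem hasCoproduct_sh {ι : Type u} (F : ι → Sheaf J (Type u)) : HasCoproduct F := by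
  have : HasColimitsOfSize.{u, u} (Sheaf J (Type u)) := hasColimits_sh
  infer_instance

end Groth.Agent.Topos.H563.ShColim
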