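import Groth.Prelude.Def_ToposFin2
import Groth.Agent.Sga4A.QS
import Groth.Agent.Sga4A.QCLocal
import Groth.Agent.Sga4A.FinCoprod
import Groth.Agent.Topos.H563.ShColim

/-!
# Coherent objects of an algebraic topos

`S` is a generating set of quasi-compact objects of the topos, stable under fibre products (and equalizers).
* `isCoherent_of_mem` : members of `S` are coherent.
* `exists_coherent_cover_of_epi` : an epimorphism onto a quasi-compact object is refined by a coherent cover.
* `isQS_prod_of_mem` : products of members of `S` are quasi-separated.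
* `isQSHom_of_isQS` : in an algebraic topos, every morphism from a quasi-separated object is quasi-separated.
* `isQC_equalizer` : in an algebraic topos, equalizers of maps from a quasi-compact to a quasi-separated object are
  quasi-compact.
* `isCoherent_of_isPullback` : in an algebraic topos, fibre products of coherent objects over a quasi-separated
  object are coherent.
-/

set_option autoImplicit false

universe w u

open CategoryTheory CategoryTheory.Limits Opposite ToposFin

namespace Groth.Agent.Topos.H563.AlgTopos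

open Groth.Agent.Sga4A.QC Groth.Agent.Sga4A.QCLocal Groth.Agent.Sga4A.QS

variable {C : Type u} [SmallCategory C] {J : GrothendieckTopology C}

attribute [local instance 10000] Groth.Agent.Topos.H563.ShColim.hasColimits_sh

/-- Every object is covered by members of a generating set. -/
theorem exists_js {S : Set (Sh J)} (hgen : IsGenerating S) (X : Sh J) :
    ∃ (ι : Type u) (F : ι → Sh J) (π : ∀ i, F i ⟶ X), (∀ i, F i ∈ S) ∧ JS π := by
  obtain ⟨ι, F, π, hF, h⟩ := hgen X
  exact ⟨ι, F, π, hF, js_of_epiFamily h⟩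

/-- A quasi-compact object is covered by finitely many members of a generating set. -/
theorem exists_finite_js {S : Set (Sh J)} (hgen : IsGenerating S) {X : Sh J} (hX : IsQC X) :
    ∃ (ι : Type u) (_ : Finite ι) (F : ι → Sh J) (π : ∀ i, F i ⟶ X), (∀ i, F i ∈ S) ∧ JS π := by
  obtain ⟨ι, F, π, hF, h⟩ := exists_js hgen X
  obtain ⟨s, hs⟩ := exists_finset_js hX h
  exact ⟨s, inferInstance, fun i => F i, fun i => π i, fun i => hF i, hs⟩

theorem hasQCGenerators {S : Set (Sh J)} (hqc : ∀ K ∈ S, IsQC K) (hgen : IsGenerating S) :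
    HasQCGenerators J := by
  intro X
  obtain ⟨ι, F, π, hF, h⟩ := exists_js hgen X
  exact ⟨ι, F, π, fun i => hqc _ (hF i), (js_iff_epi π).1 h⟩

section

variable {S : Set (Sh J)} (hqc : ∀ K ∈ S, IsQC K) (hgen : IsGenerating S) (hpb : ClosedUnderPullbacks S)

include hqc hgen hpb

/-- Members of `S` are quasi-separated. -/
theorem isQS_of_mem {K : Sh J} (hK : K ∈ S) : IsQS K := by
  intro Y Z a b hY hZ
  obtain ⟨ι, hι, F, π, hF, hπ⟩ := exists_finite_js hgen hY
  obtain ⟨κ, hκ, G, ρ, hG, hρ⟩ := exists_finite_js hgen hZ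
  refine isQC_pullback_of_js_source a b hπ (fun i => ?_)
  refine isQC_pullback_of_js (π i ≫ a) b hρ (fun k => ?_)
  obtain ⟨P, p, q, hP, h⟩ := hpb (π i ≫ a) (ρ k ≫ b) (hF i) (hG k) hK
  exact isQC_of_iso h.isoPullback (hqc P hP)

/-- Members of `S` are coherent. -/
theorem isCoherent_of_mem {K : Sh J} (hK : K ∈ S) : IsCoherent K :=
  ⟨hqc K hK, isQS_of_mem hqc hgen hpb hK⟩

/-- Every quasi-compact object is the target of an epimorphism from a coherent object, refining a given
epimorphism. -/
theorem exists_coherent_cover_of_epi {F X : Sh J} (g : F ⟶ X) [Epi g] (hX : IsQC X) :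
    ∃ (K : Sh J) (k : K ⟶ F), IsCoherent K ∧ Epi (k ≫ g) := by
  obtain ⟨ι, G, π, hG, hπ⟩ := exists_js hgen F
  obtain ⟨s, hs⟩ := exists_finset_js hX (hπ.comp_epi g)
  have hfin : Finite s := inferInstance
  refine ⟨∐ (fun i : s => G i), Sigma.desc (fun i : s => π i), ⟨?_, ?_⟩, ?_⟩
  · exact isQC_sigma _ (fun i => hqc _ (hG i))
  · exact (Groth.Agent.Sga4A.FinCoprod.isQS_sigma_iff _).2 (fun i => isQS_of_mem hqc hgen hpb (hG i))
  · have h : (Sigma.desc (fun i : s => π i) : ∐ (fun i : s => G i) ⟶ F) ≫ g =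
        Sigma.desc (fun i : s => π i ≫ g) := by
      apply Sigma.hom_ext
      intro i
      simp
    rw [h]
    exact (js_iff_epi _).1 hs

theorem exists_coherent_cover {X : Sh J} (hX : IsQC X) :
    ∃ (K : Sh J) (k : K ⟶ X), IsCoherent K ∧ Epi k := by
  obtain ⟨K, k, hK, hk⟩ := exists_coherent_cover_of_epi hqc hgen hpb (𝟙 X) hX
  exact ⟨K, k, hK, by simpa using hk⟩

variable (heq : ClosedUnderEqualizers S)
include heq

/-- Fibre products over the base of members of `S` (that is, products) are quasi-separated. -/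
theorem isQS_of_isPullback_of_mem {X A B P : Sh J} {p : P ⟶ A} {q : P ⟶ B} {f : A ⟶ X} {g : B ⟶ X}
    (h : IsPullback p q f g) (hA : A ∈ S) (hB : B ∈ S) : IsQS P := by
  intro Y Z a b hY hZ
  obtain ⟨ι, hι, F, π, hF, hπ⟩ := exists_finite_js hgen hY
  obtain ⟨κ, hκ, G, ρ, hG, hρ⟩ := exists_finite_js hgen hZ
  refine isQC_pullback_of_js_source a b hπ (fun i => ?_)
  refine isQC_pullback_of_js (π i ≫ a) b hρ (fun k => ?_)
  obtain ⟨Q, r, s, hQ, hQ'⟩ := hpb (π i ≫ a ≫ p) (ρ k ≫ b ≫ p) (hF i) (hG k) hA
  obtain ⟨R, e, w, hR, ⟨hl⟩⟩ := heq (r ≫ π i ≫ a ≫ q) (s ≫ ρ k ≫ b ≫ q) hQ hB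
  have h1 : IsPullback (e ≫ r) (e ≫ s) (π i ≫ a) (ρ k ≫ b) := by
    have w1 : (e ≫ r) ≫ π i ≫ a = (e ≫ s) ≫ ρ k ≫ b := by
      apply h.hom_ext
      · simp only [Category.assoc]
        rw [hQ'.w]
      · simpa only [Category.assoc] using w
    have w2 : ∀ c : PullbackCone (π i ≫ a) (ρ k ≫ b), c.fst ≫ π i ≫ a ≫ p = c.snd ≫ ρ k ≫ b ≫ p := by
      intro c
      have := congrArg (· ≫ p) c.condition
      simpa only [Category.assoc] using this
    have w3 : ∀ c : PullbackCone (π i ≫ a) (ρ k ≫ b),
        hQ'.lift c.fst c.snd (w2 c) ≫ r ≫ π i ≫ a ≫ q =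
          hQ'.lift c.fst c.snd (w2 c) ≫ s ≫ ρ k ≫ b ≫ q := by
      intro c
      rw [hQ'.lift_fst_assoc, hQ'.lift_snd_assoc]
      have := congrArg (· ≫ q) c.condition
      simpa only [Category.assoc] using this
    refine ⟨⟨w1⟩, ⟨PullbackCone.IsLimit.mk _
      (fun c => Fork.IsLimit.lift hl (hQ'.lift c.fst c.snd (w2 c)) (w3 c)) ?_ ?_ ?_⟩⟩
    · intro c
      have := Fork.IsLimit.lift_ι' hl (hQ'.lift c.fst c.snd (w2 c)) (w3 c)
      rw [Fork.ι_ofι] at this
      rw [← Category.assoc, this, hQ'.lift_fst]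
    · intro c
      have := Fork.IsLimit.lift_ι' hl (hQ'.lift c.fst c.snd (w2 c)) (w3 c)
      rw [Fork.ι_ofι] at this
      rw [← Category.assoc, this, hQ'.lift_snd]
    · intro c m h1 h2
      apply Fork.IsLimit.hom_ext hl
      have := Fork.IsLimit.lift_ι' hl (hQ'.lift c.fst c.snd (w2 c)) (w3 c)
      rw [this]
      rw [Fork.ι_ofι]
      apply hQ'.hom_ext
      · rw [Category.assoc, hQ'.lift_fst]; exact h1
      · rw [Category.assoc, hQ'.lift_snd]; exact h2
  exact isQC_of_iso h1.isoPullback (hqc R hR)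

/-- In an algebraic topos every morphism whose source is quasi-separated is quasi-separated. -/
theorem isQSHom_of_isQS {X Y : Sh J} (f : X ⟶ Y) (hX : IsQS X) : IsQSHom f := by
  obtain ⟨ι, F, π, hF, hπ⟩ := exists_js hgen X
  exact isQSHom_of_cover_with_qs_products (hasQCGenerators hqc hgen) f hπ (fun i => hqc _ (hF i))
    (fun i j => isQS_of_isPullback_of_mem hqc hgen hpb heq (IsPullback.of_hasPullback _ _) (hF i) (hF j)) hX

end

/-- In an algebraic topos every morphism whose source is quasi-separated is quasi-separated. -/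
theorem isQSHom_of_isAlgebraic (hE : IsAlgebraic J) {X Y : Sh J} (f : X ⟶ Y) (hX : IsQS X) : IsQSHom f := by
  obtain ⟨S, hqc, hgen, hpb, heq⟩ := hE
  exact isQSHom_of_isQS hqc hgen hpb heq f hX

/-- The equalizer of `a, b` is the base change of the diagonal of `Y ⟶ ⊤` along `(a, b)`. -/
theorem isPullback_equalizer {E : Type*} [Category* E] [HasFiniteLimits E] {X Y T : E} (a b : X ⟶ Y) (t : Y ⟶ T)
    (w : a ≫ t = b ≫ t) :
    IsPullback (equalizer.ι a b ≫ a) (equalizer.ι a b) (pullback.diagonal t) (pullback.lift a b w) := by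
  refine ⟨⟨?_⟩, ⟨PullbackCone.IsLimit.mk _ (fun s => equalizer.lift s.snd ?_) ?_ ?_ ?_⟩⟩
  · apply pullback.hom_ext
    · rw [Category.assoc, Category.assoc, Category.assoc, pullback.diagonal_fst, pullback.lift_fst,
        Category.comp_id]
    · rw [Category.assoc, Category.assoc, Category.assoc, pullback.diagonal_snd, pullback.lift_snd,
        Category.comp_id, equalizer.condition]
  · have h1 := congrArg (· ≫ pullback.fst _ _) s.condition
    have h2 := congrArg (· ≫ pullback.snd _ _) s.condition
    simp only [Category.assoc, pullback.diagonal_fst, pullback.diagonal_snd, pullback.lift_fst,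
      pullback.lift_snd, Category.comp_id] at h1 h2
    rw [← h1, ← h2]
  · intro s
    have h1 := congrArg (· ≫ pullback.fst _ _) s.condition
    simp only [Category.assoc, pullback.diagonal_fst, pullback.lift_fst, Category.comp_id] at h1
    rw [equalizer.lift_ι_assoc, h1]
  · intro s
    rw [equalizer.lift_ι]
  · intro s m h1 h2
    apply equalizer.hom_ext
    rw [equalizer.lift_ι, h2]

/-- In an algebraic topos, the equalizer of two maps from a quasi-compact object to a quasi-separated object is
quasi-compact. -/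
theorem isQC_equalizer (hE : IsAlgebraic J) {X Y : Sh J} (a b : X ⟶ Y) (hX : IsQC X) (hY : IsQS Y) :
    IsQC (equalizer a b) := by
  have hq : IsQCHom (pullback.diagonal (terminal.from Y)) := isQSHom_of_isAlgebraic hE (terminal.from Y) hY
  have w : a ≫ terminal.from Y = b ≫ terminal.from Y := Subsingleton.elim _ _
  exact isQC_of_isPullback hq (isPullback_equalizer a b _ w) hX

/-- In an algebraic topos, fibre products of coherent objects over a quasi-separated object are coherent. -/
theorem isCoherent_of_isPullback (hE : IsAlgebraic J) {X A B P : Sh J} {p : P ⟶ A} {q : P ⟶ B} {f : A ⟶ X}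
    {g : B ⟶ X} (h : IsPullback p q f g) (hA : IsCoherent A) (hB : IsCoherent B) (hX : IsQS X) :
    IsCoherent P := by
  refine ⟨isQC_of_isPullback_of_isQS hX h hA.1 hB.1, ?_⟩
  -- `P ⟶ A` is quasi-separated as a base change of `B ⟶ X`
  have hg : IsQSHom p := isQSHom_of_isPullback h.flip (isQSHom_of_isAlgebraic hE g hB.2)
  exact Groth.Agent.Sga4A.FinBase.isQS_of_isQSHom p hg hA.2

end Groth.Agent.Topos.H563.AlgTopos
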